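import Groth.Agent.L27.TopInv.Glue
import Groth.Agent.L27.EtaleLift
import Mathlib.AlgebraicGeometry.Morphisms.ClosedImmersion
import Mathlib.Algebra.Category.Ring.Constructions

/-! # Topological invariance of the small etale site for thickenings -/

universe u

open CategoryTheory CategoryTheory.Limits AlgebraicGeometry TensorProduct

set_option backward.isDefEq.respectTransparency.types false

namespace Groth.L27.TopInv

/-- Affine etale schemes lift along closed immersions into affine schemes. -/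
theorem exists_lift_affine {A : CommRingCat.{u}} {X₀ W : Scheme.{u}} [IsAffine W]
    (i : X₀ ⟶ Spec A) [IsClosedImmersion i] (f : W ⟶ X₀) [AlgebraicGeometry.Etale f] :
    ∃ (U : Scheme.{u}) (v : U ⟶ Spec A) (_ : AlgebraicGeometry.Etale v) (k : W ⟶ U),
      IsPullback k f v i := by
  obtain ⟨I, e, rfl⟩ := IsClosedImmersion.Spec_iff.1 ‹IsClosedImmersion i›
  let f' : Spec Γ(W, ⊤) ⟶ Spec (CommRingCat.of (A ⧸ I)) := W.isoSpec.inv ≫ f ≫ e.hom
  let φ : CommRingCat.of (A ⧸ I) ⟶ Γ(W, ⊤) := Spec.preimage f'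
  have hφ : φ.hom.Etale := by
    have h : AlgebraicGeometry.Etale (Spec.map φ) := by rw [Spec.map_preimage]; infer_instance
    exact HasRingHomProperty.Spec_iff.1 h
  let : Algebra (A ⧸ I) Γ(W, ⊤) := φ.hom.toAlgebra
  have : Algebra.Etale (A ⧸ I) Γ(W, ⊤) := RingHom.etale_algebraMap.1 hφ
  obtain ⟨M, _, _, hM, ⟨ε⟩⟩ := EtaleLift.exists_lift A I Γ(W, ⊤)
  let v : Spec (CommRingCat.of M) ⟶ Spec A := Spec.map (CommRingCat.ofHom (algebraMap A M))
  have hv : AlgebraicGeometry.Etale v :=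
    HasRingHomProperty.Spec_iff.2 (RingHom.etale_algebraMap.2 hM)
  let η : Γ(W, ⊤) ≅ CommRingCat.of ((A ⧸ I) ⊗[A] M) := ε.symm.toRingEquiv.toCommRingCatIso
  have hinl : φ ≫ η.hom = CommRingCat.ofHom (Algebra.TensorProduct.includeLeftRingHom) := by
    ext x
    exact ε.symm.commutes x
  refine ⟨_, v, hv, W.isoSpec.hom ≫ Spec.map η.inv ≫
    Spec.map (CommRingCat.ofHom (Algebra.TensorProduct.includeRight (R := A) (A := A ⧸ I) (B := M)).toRingHom), ?_⟩
  have sq := isPullback_SpecMap_of_isPushout _ _ _ _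
    (CommRingCat.isPushout_tensorProduct A (A ⧸ I) M).flip
  let ω : W ≅ Spec (CommRingCat.of ((A ⧸ I) ⊗[A] M)) := W.isoSpec ≪≫ asIso (Spec.map η.inv)
  refine sq.of_iso ω.symm (Iso.refl _) e.symm (Iso.refl _) ?_ ?_ ?_ ?_
  · rw [Iso.refl_hom, Category.comp_id, ← Iso.inv_comp_eq]
    simp [ω]
  · rw [← hinl, Spec.map_comp, Spec.map_preimage]
    simp only [ω, f', Iso.symm_hom, Iso.trans_inv, asIso_inv, Category.assoc, Iso.hom_inv_id,
      Category.comp_id, ← IsIso.Iso.inv_hom η]
    simp [← Spec.map_inv]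
  · simp [v]
  · simp

variable {S S₀ : Scheme.{u}} (i : S₀ ⟶ S) [IsClosedImmersion i]

theorem inImage_of_isClosedImmersion (Z : S₀.Etale) (z : Z.left) :
    ∃ W : Z.left.Opens, z ∈ W ∧ InImage i Z W := by
  have : AlgebraicGeometry.Etale Z.hom := Z.prop
  obtain ⟨A, j, _, hj, -⟩ := S.exists_affine_mem_range_and_range_subset
    (U := ⊤) (x := i.base (Z.hom.base z)) trivial
  let O : Z.left.Opens := (Z.hom ≫ i) ⁻¹ᵁ j.opensRange
  have hzO : z ∈ O := hj
  obtain ⟨_, ⟨W₀, hW, rfl⟩, hzW, hWO⟩ :=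
    Z.left.isBasis_affineOpens.exists_subset_of_mem_open hzO O.2
  let W : Z.left.Opens := W₀
  have : IsAffine (W : Scheme.{u}) := hW
  let j₀ := pullback.fst i j
  have hr : Set.range (W.ι ≫ Z.hom).base ⊆ Set.range j₀.base := by
    rw [Scheme.Pullback.range_fst]
    rintro _ ⟨w, rfl⟩
    exact hWO w.2
  let f : (W : Scheme.{u}) ⟶ pullback i j := IsOpenImmersion.lift j₀ (W.ι ≫ Z.hom) hr
  have hf : f ≫ j₀ = W.ι ≫ Z.hom := IsOpenImmersion.lift_fac _ _ _
  have : AlgebraicGeometry.Etale f := by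
    have : AlgebraicGeometry.Etale (f ≫ j₀) := hf ▸ inferInstance
    exact MorphismProperty.of_postcomp (W := @AlgebraicGeometry.Etale) (W' := @AlgebraicGeometry.Etale)
      f j₀ inferInstance this
  obtain ⟨U, v, _, k, hk⟩ := exists_lift_affine (pullback.snd i j) f
  have sq : IsPullback k (f ≫ j₀) (v ≫ j) i :=
    hk.paste_vert (IsPullback.of_hasPullback i j).flip
  refine ⟨W, hzW, Scheme.Etale.mk (v ≫ j), ⟨(isoOfLeft sq.isoPullback ?_).symm⟩⟩
  exact sq.isoPullback_hom_snd.trans hf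

/-- Topological invariance of the small etale site for surjective closed immersions. -/
theorem isEquivalence_bc_of_thickening [Surjective i] : (EtCoh.bc i).IsEquivalence :=
  isEquivalence_bc i (univSubmersive_of_universallyClosed i) fun Z z =>
    inImage_of_isClosedImmersion i Z z

end Groth.L27.TopInv
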