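import Groth.Agent.L27.TopInv.Thickening
import Groth.Agent.L23.QFDescent
import Groth.Prelude.Def_FEt
import Mathlib.AlgebraicGeometry.ZariskisMainTheorem

/-! # Topological invariance of finite etale covers -/

universe u

open CategoryTheory CategoryTheory.Limits AlgebraicGeometry

set_option backward.isDefEq.respectTransparency.types false

namespace Groth.L27.TopInv

/-- An etale morphism is finite if it becomes so after a surjective integral base change. -/
theorem isFinite_of_isPullback {S S' U U' : Scheme.{u}} {h : U ⟶ S} {g : S' ⟶ S} {p : U' ⟶ U}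
    {h' : U' ⟶ S'} (sq : IsPullback p h' h g) [AlgebraicGeometry.Etale h] [IsIntegralHom g]
    [Surjective g] [IsFinite h'] : IsFinite h := by
  have : Surjective p := MorphismProperty.of_isPullback sq.flip inferInstance
  have : UniversallyClosed p := MorphismProperty.of_isPullback sq.flip inferInstance
  have : UniversallyClosed (p ≫ h) := by rw [sq.w]; infer_instance
  have : IsSeparated (p ≫ h) := by rw [sq.w]; infer_instance
  have : QuasiCompact (p ≫ h) := by rw [sq.w]; infer_instance
  have := Groth.L20.Thick.isSeparated_of_comp_surjective p h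
  have := Groth.L20.Thick.quasiCompact_of_comp_surjective p h
  have : UniversallyClosed h := UniversallyClosed.of_comp_surjective p h
  have : IsProper h := {}
  exact (IsFinite.iff_isProper_and_locallyQuasiFinite h).2 ⟨inferInstance, inferInstance⟩

variable {S S' : Scheme.{u}} (g : S' ⟶ S) [IsIntegralHom g] [UniversallyInjective g] [Surjective g]

/-- Restriction of finite etale covers is an equivalence when base change of etale schemes is. -/
theorem isEquivalence_restrict [(EtCoh.bc g).IsEquivalence] : (FEt.restrict g).IsEquivalence := by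
  have hg := univSubmersive_of_universallyClosed g
  have : (FEt.restrict g).Full := ⟨fun {V U} ψ => by
    have : AlgebraicGeometry.Etale U.hom := U.prop.2
    obtain ⟨u, ⟨hu1, hu2⟩, -⟩ := existsUnique_hom_of_univInjective g hg V.hom U.hom
      (ψ.left ≫ pullback.fst U.hom g) ((Category.assoc _ _ _).trans
        ((congrArg (ψ.left ≫ ·) pullback.condition).trans ((Category.assoc _ _ _).symm.trans
          ((congrArg (· ≫ g) (MorphismProperty.Over.w ψ)).trans pullback.condition.symm))))
    exact ⟨MorphismProperty.Over.homMk u hu1, MorphismProperty.Over.Hom.ext (pullback.hom_ext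
      ((pullback.lift_fst _ _ _).trans hu2.symm)
      ((pullback.lift_snd _ _ _).trans (MorphismProperty.Over.w ψ).symm))⟩⟩
  have : (FEt.restrict g).Faithful := ⟨fun {V U} a b h => by
    have : AlgebraicGeometry.Etale U.hom := U.prop.2
    obtain ⟨u, -, hu⟩ := existsUnique_hom_of_univInjective g hg V.hom U.hom
      (pullback.fst V.hom g ≫ a.left) (by rw [Category.assoc, MorphismProperty.Over.w a])
    refine MorphismProperty.Over.Hom.ext ((hu a.left ⟨MorphismProperty.Over.w a, rfl⟩).trans
      (hu b.left ⟨MorphismProperty.Over.w b, ?_⟩).symm)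
    exact (pullback.lift_fst _ _ _).symm.trans ((congrArg (fun m => m.left ≫ pullback.fst U.hom g) h).trans
      (pullback.lift_fst _ _ _))⟩
  have : (FEt.restrict g).EssSurj := ⟨fun Z => by
    have : AlgebraicGeometry.Etale Z.hom := Z.prop.2
    have : IsFinite Z.hom := Z.prop.1
    let Z' : S'.Etale := Scheme.Etale.mk Z.hom
    let U := (EtCoh.bc g).objPreimage Z'
    let e : (EtCoh.bc g).obj U ≅ Z' := (EtCoh.bc g).objObjPreimageIso Z'
    have : AlgebraicGeometry.Etale U.hom := U.prop
    let el : (pullback U.hom g : Scheme.{u}) ≅ Z.left :=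
      ⟨e.hom.left, e.inv.left, congrArg (fun a => a.left) e.hom_inv_id,
        congrArg (fun a => a.left) e.inv_hom_id⟩
    have hw : el.hom ≫ Z.hom = pullback.snd U.hom g := MorphismProperty.Over.w e.hom
    have : IsFinite (pullback.snd U.hom g) := hw ▸ MorphismProperty.comp_mem @IsFinite el.hom Z.hom
      (have := el.isIso_hom; have : IsClosedImmersion el.hom := inferInstance; inferInstance) ‹IsFinite Z.hom›
    have hf := isFinite_of_isPullback (IsPullback.of_hasPullback U.hom g)
    refine ⟨MorphismProperty.Over.mk _ U.hom (show FEt.prop U.hom from ⟨hf, ‹_›⟩), ⟨?_⟩⟩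
    exact
      { hom := MorphismProperty.Over.homMk el.hom hw
        inv := MorphismProperty.Over.homMk el.inv ((congrArg (el.inv ≫ ·) hw.symm).trans
          (el.inv_hom_id_assoc Z.hom))
        hom_inv_id := MorphismProperty.Over.Hom.ext el.hom_inv_id
        inv_hom_id := MorphismProperty.Over.Hom.ext el.inv_hom_id }⟩
  exact { }

end Groth.L27.TopInv
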