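import Groth.Prelude.Def_SGA1
import Mathlib.AlgebraicGeometry.Morphisms.FlatMono
import Mathlib.AlgebraicGeometry.Morphisms.UniversallyInjective
import Mathlib.AlgebraicGeometry.Morphisms.Etale
import Mathlib.AlgebraicGeometry.PullbackCarrier

/-! # Sections of etale morphisms and their descent along universally submersive morphisms -/

universe u

open CategoryTheory CategoryTheory.Limits AlgebraicGeometry

set_option backward.isDefEq.respectTransparency.types false

namespace Groth.L27.TopInv

variable {X Z : Scheme.{u}}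

/-- An etale universally injective morphism is an open immersion. -/
theorem isOpenImmersion_of_etale_univInjective (f : Z ⟶ X) [Etale f]
    [UniversallyInjective f] : IsOpenImmersion f := by
  have : Surjective (pullback.diagonal f) := (UniversallyInjective.iff_diagonal f).1 ‹_›
  have : IsIso (pullback.diagonal f) :=
    (isIso_iff_isOpenImmersion_and_surjective _).2 ⟨inferInstance, inferInstance⟩
  have : Mono f := (pullback.isIso_diagonal_iff f).1 this
  exact IsOpenImmersion.of_flat_of_mono f

/-- A section of an etale morphism is an open immersion. -/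
theorem isOpenImmersion_section (π : Z ⟶ X) [Etale π] (s : X ⟶ Z) (hs : s ≫ π = 𝟙 X) :
    IsOpenImmersion s := by
  have : Etale (s ≫ π) := by rw [hs]; infer_instance
  have : Etale s :=
    MorphismProperty.of_postcomp (W := @Etale) (W' := @Etale) s π inferInstance inferInstance
  have : Mono (s ≫ π) := by rw [hs]; infer_instance
  have : Mono s := mono_of_mono s π
  exact IsOpenImmersion.of_flat_of_mono s

/-- An open subscheme of an etale `X`-scheme which is radicial surjective over `X` is a section. -/
theorem existsUnique_section (π : Z ⟶ X) [Etale π] (Γ : Z.Opens)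
    [UniversallyInjective (Γ.ι ≫ π)] [Surjective (Γ.ι ≫ π)] :
    ∃! s : X ⟶ Z, s ≫ π = 𝟙 X ∧ Set.range s.base = (Γ : Set Z) := by
  have := isOpenImmersion_of_etale_univInjective (Γ.ι ≫ π)
  have : IsIso (Γ.ι ≫ π) :=
    (isIso_iff_isOpenImmersion_and_surjective _).2 ⟨inferInstance, inferInstance⟩
  refine ⟨inv (Γ.ι ≫ π) ≫ Γ.ι, ⟨by simp, ?_⟩, ?_⟩
  · ext z
    constructor
    · rintro ⟨x, rfl⟩
      rw [Scheme.Hom.comp_apply]
      exact ((inv (Γ.ι ≫ π)).base x).2
    · intro hz
      refine ⟨(Γ.ι ≫ π).base ⟨z, hz⟩, ?_⟩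
      rw [← Scheme.Hom.comp_apply, IsIso.hom_inv_id_assoc]
      rfl
  · rintro s ⟨hs, hr⟩
    have hr' : Set.range s.base ⊆ Set.range Γ.ι.base := by rw [Scheme.Opens.range_ι, hr]
    rw [← IsOpenImmersion.lift_fac Γ.ι s hr']
    congr 1
    rw [← cancel_mono (Γ.ι ≫ π), IsIso.inv_hom_id, ← Category.assoc, IsOpenImmersion.lift_fac, hs]

/-- Maps into an etale scheme agreeing on a surjective test scheme agree. -/
theorem eq_of_surjective {T T₀ : Scheme.{u}} (π : Z ⟶ X) [FormallyUnramified π] [LocallyOfFiniteType π]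
    (j : T₀ ⟶ T) [Surjective j] {a b : T ⟶ Z} (hab : a ≫ π = b ≫ π) (h : j ≫ a = j ≫ b) : a = b := by
  let d : T ⟶ pullback π π := pullback.lift a b hab
  let l : T₀ ⟶ pullback (pullback.diagonal π) d := pullback.lift (j ≫ a) j (by
    apply pullback.hom_ext
    · rw [Category.assoc, pullback.diagonal_fst, Category.comp_id, Category.assoc, pullback.lift_fst]
    · rw [Category.assoc, pullback.diagonal_snd, Category.comp_id, Category.assoc, pullback.lift_snd, h])
  have : Surjective (l ≫ pullback.snd (pullback.diagonal π) d) := by rw [pullback.lift_snd]; infer_instance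
  have : Surjective (pullback.snd (pullback.diagonal π) d) := Surjective.of_comp l _
  have : IsIso (pullback.snd (pullback.diagonal π) d) :=
    (isIso_iff_isOpenImmersion_and_surjective _).2 ⟨inferInstance, inferInstance⟩
  have hd : d = inv (pullback.snd (pullback.diagonal π) d) ≫ pullback.fst (pullback.diagonal π) d ≫
      pullback.diagonal π := by rw [pullback.condition, IsIso.inv_hom_id_assoc]
  refine (pullback.lift_fst a b hab).symm.trans (Eq.trans ?_ (pullback.lift_snd a b hab))
  change d ≫ _ = d ≫ _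
  rw [hd, Category.assoc, Category.assoc, Category.assoc, Category.assoc, pullback.diagonal_fst,
    pullback.diagonal_snd]

/-- Maps to an etale scheme descend along universally submersive morphisms. -/
theorem existsUnique_descend {X' : Scheme.{u}} (π : Z ⟶ X) [Etale π] (h : X' ⟶ X)
    (hh : SGA1.UnivSubmersive h) (φ : X' ⟶ Z) (hφ : φ ≫ π = h)
    (hc : pullback.fst h h ≫ φ = pullback.snd h h ≫ φ) :
    ∃! s : X ⟶ Z, s ≫ π = 𝟙 X ∧ h ≫ s = φ := by
  have : Surjective h := ⟨(MorphismProperty.universally_le _ _ hh).surjective⟩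
  let pr := pullback.fst π h
  have hq : Topology.IsQuotientMap pr.base :=
    hh (pullback.snd π h) π pr (IsPullback.of_hasPullback π h)
  let σ : X' ⟶ pullback π h := pullback.lift φ (𝟙 X') (by rw [hφ, Category.id_comp])
  have := isOpenImmersion_section (pullback.snd π h) σ (pullback.lift_snd _ _ _)
  have hpre : pr.base ⁻¹' Set.range φ.base = Set.range σ.base := by
    refine le_antisymm ?_ ?_
    · rintro z ⟨a, ha⟩
      obtain ⟨v, -, hv⟩ := Scheme.Pullback.exists_preimage_pullback (f := φ) (g := pr) a z ha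
      let c : pullback φ pr ⟶ pullback h h :=
        pullback.lift (pullback.fst φ pr) (pullback.snd φ pr ≫ pullback.snd π h) (by
          rw [Category.assoc, ← pullback.condition, ← pullback.condition_assoc, hφ])
      have e : pullback.snd φ pr = c ≫ pullback.snd h h ≫ σ := by
        apply pullback.hom_ext
        · simp only [Category.assoc, σ, pullback.lift_fst]
          rw [← hc, pullback.lift_fst_assoc]
          exact pullback.condition.symm
        · simp only [Category.assoc, σ, pullback.lift_snd, Category.comp_id, c]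
      rw [e, Scheme.Hom.comp_apply, Scheme.Hom.comp_apply] at hv
      exact ⟨_, hv⟩
    · rintro z ⟨a, rfl⟩
      refine ⟨a, ?_⟩
      rw [← Scheme.Hom.comp_apply, pullback.lift_fst]
  let Γ : Z.Opens := ⟨Set.range φ.base,
    hq.isOpen_preimage.1 (hpre ▸ σ.isOpenEmbedding.isOpen_range)⟩
  have hr : Set.range φ.base ⊆ Set.range Γ.ι.base := by rw [Scheme.Opens.range_ι]; rfl
  let φ' : X' ⟶ Γ := IsOpenImmersion.lift Γ.ι φ hr
  have hφ' : φ' ≫ Γ.ι = φ := IsOpenImmersion.lift_fac _ _ _
  have : Surjective φ' := ⟨fun z => by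
    obtain ⟨a, ha⟩ : z.1 ∈ Set.range φ.base := z.2
    refine ⟨a, Subtype.ext ?_⟩
    exact (congrArg (fun m : X' ⟶ Z => m.base a) hφ').trans ha⟩
  have hw : φ' ≫ Γ.ι ≫ π = h := by rw [← Category.assoc, hφ', hφ]
  have : Surjective (Γ.ι ≫ π) := by
    have : Surjective (φ' ≫ Γ.ι ≫ π) := hw ▸ inferInstance
    exact Surjective.of_comp φ' _
  have : UniversallyInjective (Γ.ι ≫ π) := by
    rw [UniversallyInjective.iff_diagonal]
    let ψ : pullback h h ⟶ pullback.diagonalObj (Γ.ι ≫ π) :=
      pullback.map h h (Γ.ι ≫ π) (Γ.ι ≫ π) φ' φ' (𝟙 X) (by simp [hw]) (by simp [hw])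
    have : Surjective ψ := MorphismProperty.pullbackMap (P := @Surjective) ‹Surjective φ'› ‹Surjective φ'› hw.symm hw.symm
    have e : ψ = (pullback.fst h h ≫ φ') ≫ pullback.diagonal (Γ.ι ≫ π) := by
      apply pullback.hom_ext
      · rw [Category.assoc, pullback.diagonal_fst, Category.comp_id]
        exact pullback.lift_fst _ _ _
      · rw [Category.assoc, pullback.diagonal_snd, Category.comp_id]
        refine (pullback.lift_snd _ _ _).trans ?_
        rw [← cancel_mono Γ.ι, Category.assoc, Category.assoc, hφ', hc]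
    have : Surjective ((pullback.fst h h ≫ φ') ≫ pullback.diagonal (Γ.ι ≫ π)) := e ▸ inferInstance
    exact Surjective.of_comp (pullback.fst h h ≫ φ') _
  have := isOpenImmersion_of_etale_univInjective (Γ.ι ≫ π)
  have : IsIso (Γ.ι ≫ π) :=
    (isIso_iff_isOpenImmersion_and_surjective _).2 ⟨inferInstance, inferInstance⟩
  have hs : h ≫ inv (Γ.ι ≫ π) ≫ Γ.ι = φ := by
    rw [← hw]
    simp only [Category.assoc]
    rw [← Category.assoc Γ.ι π, IsIso.hom_inv_id_assoc, hφ']
  refine ⟨inv (Γ.ι ≫ π) ≫ Γ.ι, ⟨by simp, hs⟩, ?_⟩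
  rintro s ⟨hs1, hs2⟩
  exact eq_of_surjective π h (by rw [hs1]; simp) (hs2.trans hs.symm)

end Groth.L27.TopInv
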