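import Groth.Agent.L27.TopInv.Glue
import Groth.Agent.L27.TopInv.Alg.Main
import Groth.Agent.L20.UnivHomeo
import Mathlib.Algebra.Category.Ring.Constructions

/-! # Topological invariance of the small etale site for universal homeomorphisms -/

universe u

open CategoryTheory CategoryTheory.Limits AlgebraicGeometry TensorProduct

set_option backward.isDefEq.respectTransparency.types false

namespace Groth.L27.TopInv

theorem isUnivHomeo_respectsIso : (FlatMor.IsUnivHomeo.{u}).RespectsIso :=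
  inferInstanceAs (MorphismProperty.universally _).RespectsIso

/-- Affine etale schemes lift along universal homeomorphisms into affine schemes. -/
theorem exists_lift_affine_univHomeo {A : CommRingCat.{u}} {X₀ W : Scheme.{u}} [IsAffine W]
    [IsAffine X₀] (i : X₀ ⟶ Spec A) (hi : FlatMor.IsUnivHomeo i) (f : W ⟶ X₀)
    [AlgebraicGeometry.Etale f] :
    ∃ (U : Scheme.{u}) (v : U ⟶ Spec A) (_ : AlgebraicGeometry.Etale v) (k : W ⟶ U),
      IsPullback k f v i := by
  obtain ⟨e, -⟩ : ∃ e : X₀ ≅ Spec Γ(X₀, ⊤), e = X₀.isoSpec := ⟨_, rfl⟩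
  obtain ⟨ψ, hψ⟩ : ∃ ψ : A ⟶ Γ(X₀, ⊤), Spec.map ψ = e.inv ≫ i := ⟨_, Spec.map_preimage _⟩
  letI : Algebra A Γ(X₀, ⊤) := ψ.hom.toAlgebra
  have hgood : Good.Good A Γ(X₀, ⊤) := by
    refine Good.of_isUnivHomeo (show FlatMor.IsUnivHomeo (Spec.map ψ) from ?_)
    rw [hψ]
    have := isUnivHomeo_respectsIso.{u}
    exact (MorphismProperty.cancel_left_of_respectsIso _ e.inv i).2 hi
  let f' : Spec Γ(W, ⊤) ⟶ Spec Γ(X₀, ⊤) := W.isoSpec.inv ≫ f ≫ e.hom
  let φ : Γ(X₀, ⊤) ⟶ Γ(W, ⊤) := Spec.preimage f'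
  have hφ : φ.hom.Etale := by
    have h : AlgebraicGeometry.Etale (Spec.map φ) := by rw [Spec.map_preimage]; infer_instance
    exact HasRingHomProperty.Spec_iff.1 h
  letI : Algebra Γ(X₀, ⊤) Γ(W, ⊤) := φ.hom.toAlgebra
  obtain ⟨M, _, _, hM, ⟨ε⟩⟩ := hgood Γ(W, ⊤) (RingHom.etale_algebraMap.1 hφ)
  let v : Spec (CommRingCat.of M) ⟶ Spec A := Spec.map (CommRingCat.ofHom (algebraMap A M))
  have hv : AlgebraicGeometry.Etale v :=
    HasRingHomProperty.Spec_iff.2 (RingHom.etale_algebraMap.2 hM)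
  let η : Γ(W, ⊤) ≅ CommRingCat.of (Γ(X₀, ⊤) ⊗[A] M) := ε.symm.toRingEquiv.toCommRingCatIso
  have hinl : φ ≫ η.hom = CommRingCat.ofHom (Algebra.TensorProduct.includeLeftRingHom) := by
    ext x
    exact ε.symm.commutes x
  refine ⟨_, v, hv, W.isoSpec.hom ≫ Spec.map η.inv ≫
    Spec.map (CommRingCat.ofHom
      (Algebra.TensorProduct.includeRight (R := A) (A := Γ(X₀, ⊤)) (B := M)).toRingHom), ?_⟩
  have sq := isPullback_SpecMap_of_isPushout _ _ _ _
    (CommRingCat.isPushout_tensorProduct A Γ(X₀, ⊤) M).flip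
  let ω : W ≅ Spec (CommRingCat.of (Γ(X₀, ⊤) ⊗[A] M)) := W.isoSpec ≪≫ asIso (Spec.map η.inv)
  refine sq.of_iso ω.symm (Iso.refl _) e.symm (Iso.refl _) ?_ ?_ ?_ ?_
  · rw [Iso.refl_hom, Category.comp_id, ← Iso.inv_comp_eq]
    simp [ω]
  · rw [← hinl, Spec.map_comp, Spec.map_preimage]
    simp only [ω, f', Iso.symm_hom, Iso.trans_inv, asIso_inv, Category.assoc, Iso.hom_inv_id,
      Category.comp_id, ← IsIso.Iso.inv_hom η]
    simp [← Spec.map_inv]
  · simp [v]
  · rw [Iso.refl_hom, Category.comp_id, Iso.symm_hom, ← hψ]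
    rfl

variable {S S₀ : Scheme.{u}} (g : S₀ ⟶ S)

theorem inImage_of_isUnivHomeo (hg : FlatMor.IsUnivHomeo g) (Z : S₀.Etale) (z : Z.left) :
    ∃ W : Z.left.Opens, z ∈ W ∧ InImage g Z W := by
  have : AlgebraicGeometry.Etale Z.hom := Z.prop
  obtain ⟨A, j, _, hj, -⟩ := S.exists_affine_mem_range_and_range_subset
    (U := ⊤) (x := g.base (Z.hom.base z)) trivial
  let O : Z.left.Opens := (Z.hom ≫ g) ⁻¹ᵁ j.opensRange
  have hzO : z ∈ O := hj
  obtain ⟨_, ⟨W₀, hW, rfl⟩, hzW, hWO⟩ :=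
    Z.left.isBasis_affineOpens.exists_subset_of_mem_open hzO O.2
  let W : Z.left.Opens := W₀
  have : IsAffine (W : Scheme.{u}) := hW
  have hst : (FlatMor.IsUnivHomeo.{u}).IsStableUnderBaseChange :=
    inferInstanceAs (MorphismProperty.universally _).IsStableUnderBaseChange
  have hp : FlatMor.IsUnivHomeo (pullback.snd g j) := MorphismProperty.pullback_snd _ _ hg
  have : IsAffine (pullback g j) := by
    have := L20.isIntegralHom_of_isUnivHomeo hp
    exact isAffine_of_isAffineHom (pullback.snd g j)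
  let j₀ := pullback.fst g j
  have hr : Set.range (W.ι ≫ Z.hom).base ⊆ Set.range j₀.base := by
    rw [Scheme.Pullback.range_fst]
    rintro _ ⟨w, rfl⟩
    exact hWO w.2
  let f : (W : Scheme.{u}) ⟶ pullback g j := IsOpenImmersion.lift j₀ (W.ι ≫ Z.hom) hr
  have hf : f ≫ j₀ = W.ι ≫ Z.hom := IsOpenImmersion.lift_fac _ _ _
  have : AlgebraicGeometry.Etale f := by
    have : AlgebraicGeometry.Etale (f ≫ j₀) := hf ▸ inferInstance
    exact MorphismProperty.of_postcomp (W := @AlgebraicGeometry.Etale) (W' := @AlgebraicGeometry.Etale)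
      f j₀ inferInstance this
  obtain ⟨U, v, _, k, hk⟩ := exists_lift_affine_univHomeo (pullback.snd g j) hp f
  have sq : IsPullback k (f ≫ j₀) (v ≫ j) g :=
    hk.paste_vert (IsPullback.of_hasPullback g j).flip
  refine ⟨W, hzW, Scheme.Etale.mk (v ≫ j), ⟨(isoOfLeft sq.isoPullback ?_).symm⟩⟩
  exact sq.isoPullback_hom_snd.trans hf

/-- Topological invariance of the small etale site. -/
theorem isEquivalence_bc_of_isUnivHomeo (hg : FlatMor.IsUnivHomeo g) :
    (EtCoh.bc g).IsEquivalence := by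
  obtain ⟨h₁, h₂, h₃⟩ := (L20.isUnivHomeo_iff g).1 hg
  exact isEquivalence_bc g (univSubmersive_of_universallyClosed g) fun Z z =>
    inImage_of_isUnivHomeo g hg Z z

end Groth.L27.TopInv
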