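import Groth.Agent.L27.TopInv.Sections
import Mathlib.AlgebraicGeometry.Morphisms.Integral
import Mathlib.AlgebraicGeometry.Morphisms.Flat

/-! # Full faithfulness of base change on etale schemes -/

universe u

open CategoryTheory CategoryTheory.Limits AlgebraicGeometry

set_option backward.isDefEq.respectTransparency.types false

namespace Groth.L27.TopInv

variable {S S' X Y : Scheme.{u}}

theorem univSubmersive_baseChange (p : X ⟶ S) {g : S' ⟶ S} (hg : SGA1.UnivSubmersive g) :
    SGA1.UnivSubmersive (pullback.fst p g) := by
  have : SGA1.UnivSubmersive.{u}.IsStableUnderBaseChange :=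
    MorphismProperty.universally_isStableUnderBaseChange _
  exact MorphismProperty.of_isPullback (P := SGA1.UnivSubmersive.{u})
    (IsPullback.of_hasPullback p g).flip hg

/-- Morphisms into an etale scheme descend along universally submersive morphisms. -/
theorem existsUnique_hom (g : S' ⟶ S) (hg : SGA1.UnivSubmersive g) (p : X ⟶ S) (q : Y ⟶ S) [Etale q]
    (a : pullback p g ⟶ Y) (ha : a ≫ q = pullback.fst p g ≫ p)
    (hc : pullback.fst (pullback.fst p g) (pullback.fst p g) ≫ a =
      pullback.snd (pullback.fst p g) (pullback.fst p g) ≫ a) :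
    ∃! u : X ⟶ Y, u ≫ q = p ∧ a = pullback.fst p g ≫ u := by
  let φ : pullback p g ⟶ pullback p q := pullback.lift (pullback.fst p g) a ha.symm
  obtain ⟨s, ⟨hs1, hs2⟩, huniq⟩ := existsUnique_descend (pullback.fst p q) (pullback.fst p g)
    (univSubmersive_baseChange p hg) φ (pullback.lift_fst _ _ _) (by
      apply pullback.hom_ext
      · simp only [φ, Category.assoc, pullback.lift_fst, pullback.condition]
      · simp only [φ, Category.assoc, pullback.lift_snd, hc])
  refine ⟨s ≫ pullback.snd p q, ⟨?_, ?_⟩, ?_⟩
  · rw [Category.assoc, ← pullback.condition, ← Category.assoc, hs1, Category.id_comp]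
  · rw [← Category.assoc, hs2, pullback.lift_snd]
  · rintro v ⟨hv1, hv2⟩
    rw [← huniq (pullback.lift (𝟙 X) v (by simp [hv1])) ⟨pullback.lift_fst _ _ _, by
      apply pullback.hom_ext
      · rw [Category.assoc]
        refine Eq.trans ?_ (pullback.lift_fst _ _ _).symm
        refine (congrArg (_ ≫ ·) (pullback.lift_fst _ _ _)).trans (Category.comp_id _)
      · rw [Category.assoc]
        refine Eq.trans ?_ (pullback.lift_snd _ _ _).symm
        exact (congrArg (_ ≫ ·) (pullback.lift_snd _ _ _)).trans hv2.symm⟩, pullback.lift_snd]

/-- Morphisms into an etale scheme descend uniquely along universal homeomorphisms. -/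
theorem existsUnique_hom_of_univInjective (g : S' ⟶ S) [UniversallyInjective g]
    (hg : SGA1.UnivSubmersive g) (p : X ⟶ S) (q : Y ⟶ S) [Etale q]
    (a : pullback p g ⟶ Y) (ha : a ≫ q = pullback.fst p g ≫ p) :
    ∃! u : X ⟶ Y, u ≫ q = p ∧ a = pullback.fst p g ≫ u := by
  refine existsUnique_hom g hg p q a ha ?_
  have : UniversallyInjective (pullback.fst p g) :=
    MorphismProperty.pullback_fst (P := @UniversallyInjective) p g inferInstance
  have : Surjective (pullback.diagonal (pullback.fst p g)) :=
    (UniversallyInjective.iff_diagonal _).1 inferInstance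
  refine eq_of_surjective q (pullback.diagonal (pullback.fst p g)) ?_ (by simp)
  rw [Category.assoc, Category.assoc, ha, ← Category.assoc, ← Category.assoc, pullback.condition]

theorem bijective_pullback_map (g : S' ⟶ S) [UniversallyInjective g] (hg : SGA1.UnivSubmersive g)
    (X Y : Over S) [Etale X.hom] :
    Function.Bijective (fun φ : Y ⟶ X => (Over.pullback g).map φ) := by
  have key : ∀ (φ : Y ⟶ X), ((Over.pullback g).map φ).left ≫ pullback.fst X.hom g =
      pullback.fst Y.hom g ≫ φ.left := fun φ => pullback.lift_fst _ _ _
  refine ⟨fun φ φ' h => ?_, fun ψ => ?_⟩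
  · obtain ⟨u, -, hu⟩ := existsUnique_hom_of_univInjective g hg Y.hom X.hom (pullback.fst Y.hom g ≫ φ.left)
      (by rw [Category.assoc, Over.w φ])
    refine Over.OverMorphism.ext ((hu φ.left ⟨Over.w φ, rfl⟩).trans (hu φ'.left ⟨Over.w φ', ?_⟩).symm)
    exact (key φ).symm.trans ((congrArg (fun m => m.left ≫ pullback.fst X.hom g) h).trans (key φ'))
  · have hw : ψ.left ≫ pullback.snd X.hom g = pullback.snd Y.hom g := Over.w ψ
    obtain ⟨u, ⟨hu1, hu2⟩, -⟩ := existsUnique_hom_of_univInjective g hg Y.hom X.hom
      (ψ.left ≫ pullback.fst X.hom g) (by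
        rw [Category.assoc, pullback.condition, reassoc_of% hw, ← pullback.condition])
    refine ⟨Over.homMk u hu1, Over.OverMorphism.ext (pullback.hom_ext ?_ ?_)⟩
    · exact (key (Over.homMk u hu1)).trans hu2.symm
    · exact (pullback.lift_snd _ _ _).trans hw.symm

/-- Surjective universally closed morphisms are universally submersive. -/
theorem univSubmersive_of_universallyClosed (g : S' ⟶ S) [UniversallyClosed g] [Surjective g] :
    SGA1.UnivSubmersive g := by
  intro X' Y' i₁ i₂ f' sq
  have : UniversallyClosed f' := MorphismProperty.of_isPullback sq.flip inferInstance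
  have : Surjective f' := MorphismProperty.of_isPullback sq.flip inferInstance
  exact f'.isClosedMap.isQuotientMap f'.continuous f'.surjective

/-- Faithfully flat quasi-compact morphisms are universally submersive. -/
theorem univSubmersive_of_fpqc (g : S' ⟶ S) [Flat g] [QuasiCompact g] [Surjective g] :
    SGA1.UnivSubmersive g := by
  intro X' Y' i₁ i₂ f' sq
  have : Flat f' := MorphismProperty.of_isPullback sq.flip inferInstance
  have : QuasiCompact f' := MorphismProperty.of_isPullback sq.flip inferInstance
  have : Surjective f' := MorphismProperty.of_isPullback sq.flip inferInstance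
  exact Flat.isQuotientMap_of_surjective f'

end Groth.L27.TopInv
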