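import Groth.Agent.L27.TopInv.UnivHomeo
import Groth.Agent.L23.AffineMor
import Groth.Prelude.Def_FEt
import Mathlib.AlgebraicGeometry.Morphisms.LocalFlatDescent

/-! # Finite étale covers along flat universal homeomorphisms -/

set_option autoImplicit false
set_option linter.style.haveILetI false
set_option backward.isDefEq.respectTransparency.types false

universe u

open CategoryTheory CategoryTheory.Limits AlgebraicGeometry

noncomputable section

namespace Groth.L27.TopInv

variable {S S' : Scheme.{u}}

/-- A cover as an object of the small étale site. -/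
abbrev toEt {X : Scheme.{u}} (V : FEt.Cat X) : X.Etale :=
  MorphismProperty.Over.mk ⊤ (V.hom : V.left ⟶ X) V.prop.2

theorem isEquivalence_restrict_of_isUnivHomeo (g : S' ⟶ S) (hg : FlatMor.IsUnivHomeo g) [Flat g]
    [QuasiCompact g] : (FEt.restrict g).IsEquivalence := by
  haveI := isEquivalence_bc_of_isUnivHomeo g hg
  haveI : Surjective g := ((Groth.L20.isUnivHomeo_iff g).1 hg).2.2
  have hmap : ∀ {V W : FEt.Cat S} (φ : V ⟶ W),
      ((FEt.restrict g).map φ).left ≫ pullback.fst W.hom g = pullback.fst V.hom g ≫ φ.left :=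
    fun φ => pullback.lift_fst _ _ _
  refine @Functor.IsEquivalence.mk _ _ _ _ _ ⟨fun {V W} a b h => ?_⟩ ⟨fun {V W} ψ => ?_⟩ ⟨fun Y => ?_⟩
  · let a' : toEt V ⟶ toEt W := MorphismProperty.Over.homMk a.left (MorphismProperty.Over.w a)
    let b' : toEt V ⟶ toEt W := MorphismProperty.Over.homMk b.left (MorphismProperty.Over.w b)
    have e : a' = b' := by
      apply (EtCoh.bc g).map_injective
      refine bc_hom_ext g ((bc_map_fst g a').trans (Eq.trans ?_ (bc_map_fst g b').symm))
      exact (hmap a).symm.trans ((congrArg (fun m => m.left ≫ pullback.fst W.hom g) h).trans (hmap b))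
    exact MorphismProperty.Over.Hom.ext (congrArg (fun m => m.left) e)
  · let ψ0 : pullback (V.hom : V.left ⟶ S) g ⟶ pullback (W.hom : W.left ⟶ S) g := ψ.left
    have h0 : ψ0 ≫ pullback.snd W.hom g = pullback.snd V.hom g := MorphismProperty.Over.w ψ
    let ψ' : (EtCoh.bc g).obj (toEt V) ⟶ (EtCoh.bc g).obj (toEt W) := MorphismProperty.Over.homMk ψ0 h0
    obtain ⟨a, ha⟩ := (EtCoh.bc g).map_surjective ψ'
    have hw : a.left ≫ (W.hom : W.left ⟶ S) = V.hom := MorphismProperty.Over.w a
    let r : V ⟶ W := MorphismProperty.Over.homMk a.left hw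
    refine ⟨r, MorphismProperty.Over.Hom.ext ?_⟩
    let r0 : pullback (V.hom : V.left ⟶ S) g ⟶ pullback (W.hom : W.left ⟶ S) g := ((FEt.restrict g).map r).left
    have hr0 : r0 ≫ pullback.snd W.hom g = pullback.snd V.hom g := MorphismProperty.Over.w _
    show r0 = ψ0
    refine pullback.hom_ext ?_ (hr0.trans h0.symm)
    exact (hmap r).trans ((bc_map_fst g a).symm.trans (congrArg (fun m => m.left ≫ pullback.fst W.hom g) ha))
  · obtain ⟨Z, ⟨e⟩⟩ := Functor.EssSurj.mem_essImage (F := EtCoh.bc g) (toEt Y)
    let pZ : Z.left ⟶ S := Z.hom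
    haveI : AlgebraicGeometry.Etale pZ := Z.prop
    let el : Y.left ⟶ pullback pZ g := e.inv.left
    haveI : IsIso el := inferInstanceAs (IsIso ((MorphismProperty.Over.forget _ ⊤ S' ⋙
      CategoryTheory.Over.forget S').map e.inv))
    have hel : el ≫ pullback.snd pZ g = Y.hom := MorphismProperty.Over.w e.inv
    haveI : IsFinite (el ≫ pullback.snd pZ g) := by rw [hel]; exact Y.prop.1
    haveI : IsFinite (pullback.snd pZ g) := by
      rw [← IsIso.inv_hom_id_assoc el (pullback.snd pZ g)]
      exact MorphismProperty.comp_mem _ _ _ inferInstance inferInstance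
    have hQ : (@Surjective ⊓ @Flat ⊓ @QuasiCompact : MorphismProperty Scheme.{u}) g :=
      ⟨⟨inferInstance, inferInstance⟩, inferInstance⟩
    have hfin : IsFinite pZ := MorphismProperty.of_pullback_snd_of_descendsAlong (P := @IsFinite)
      (f := pZ) (g := g) hQ inferInstance
    let V : FEt.Cat S := MorphismProperty.Over.mk ⊤ pZ ⟨hfin, inferInstance⟩
    refine ⟨V, ⟨MorphismProperty.Over.isoMk (asIso el).symm ?_⟩⟩
    show inv el ≫ Y.hom = pullback.snd pZ g
    rw [IsIso.inv_comp_eq]
    exact hel.symm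

end Groth.L27.TopInv
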