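import Groth.Agent.L27.TopInv.Hom
import Groth.Agent.L20.ThickeningTopology
import Groth.Prelude.Def_EtBase

/-! # Base change of small etale sites along universal homeomorphisms: basic properties -/

universe u

open CategoryTheory CategoryTheory.Limits AlgebraicGeometry

set_option backward.isDefEq.respectTransparency.types false

namespace Groth.L27.TopInv

variable {S S' : Scheme.{u}} (g : S' ⟶ S)

/-- An isomorphism of the small etale site from one of the underlying schemes. -/
noncomputable def isoOfLeft {Z Z' : S.Etale} (e : Z.left ≅ Z'.left) (w : e.hom ≫ Z'.hom = Z.hom) :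
    Z ≅ Z' where
  hom := MorphismProperty.Over.homMk e.hom w
  inv := MorphismProperty.Over.homMk e.inv (by rw [← w, ← Category.assoc, Iso.inv_hom_id, Category.id_comp])
  hom_inv_id := MorphismProperty.Over.Hom.ext e.hom_inv_id
  inv_hom_id := MorphismProperty.Over.Hom.ext e.inv_hom_id

theorem bc_map_fst {U V : S.Etale} (a : V ⟶ U) :
    ((EtCoh.bc g).map a).left ≫ pullback.fst U.hom g = pullback.fst V.hom g ≫ a.left :=
  (EtCoh.isPullback_bc_map g a).w

theorem bc_hom_ext {T : S'.Etale} {U : S.Etale} {a b : T ⟶ (EtCoh.bc g).obj U}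
    (h : a.left ≫ pullback.fst U.hom g = b.left ≫ pullback.fst U.hom g) : a = b :=
  MorphismProperty.Over.Hom.ext (pullback.hom_ext h
    ((MorphismProperty.Over.w a).trans (MorphismProperty.Over.w b).symm))

theorem isOpenImmersion_bc_map {U V : S.Etale} (a : V ⟶ U) [IsOpenImmersion a.left] :
    IsOpenImmersion ((EtCoh.bc g).map a).left :=
  MorphismProperty.of_isPullback (EtCoh.isPullback_bc_map g a).flip inferInstance

variable (hg : SGA1.UnivSubmersive g)
include hg

theorem surjective_g : Surjective g := ⟨(MorphismProperty.universally_le _ _ hg).surjective⟩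

theorem isQuotientMap_fst (U : S.Etale) : Topology.IsQuotientMap (pullback.fst U.hom g).base :=
  MorphismProperty.universally_le _ _ (univSubmersive_baseChange U.hom hg)

variable [UniversallyInjective g]

theorem isHomeomorph_fst (U : S.Etale) : IsHomeomorph (pullback.fst U.hom g).base := by
  have : UniversallyInjective (pullback.fst U.hom g) :=
    MorphismProperty.pullback_fst (P := @UniversallyInjective) U.hom g inferInstance
  have hb : Function.Bijective (pullback.fst U.hom g).base :=
    ⟨(pullback.fst U.hom g).injective, (isQuotientMap_fst g hg U).surjective⟩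
  exact { continuous := (pullback.fst U.hom g).continuous
          bijective := hb
          isOpenMap := fun O hO => (isQuotientMap_fst g hg U).isOpen_preimage.1
            (by rw [hb.1.preimage_image]; exact hO) }

theorem range_bc_map {U V : S.Etale} (a : V ⟶ U) :
    Set.range ((EtCoh.bc g).map a).left.base =
      (pullback.fst U.hom g).base ⁻¹' Set.range a.left.base := by
  refine le_antisymm ?_ ?_
  · rintro _ ⟨x, rfl⟩
    refine ⟨(pullback.fst V.hom g).base x, ?_⟩
    exact congrArg (fun m : ((EtCoh.bc g).obj V).left ⟶ U.left => m.base x) (bc_map_fst g a).symm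
  · rintro x ⟨v, hv⟩
    obtain ⟨y, rfl⟩ := (isHomeomorph_fst g hg V).bijective.2 v
    refine ⟨y, (isHomeomorph_fst g hg U).bijective.1 (Eq.trans ?_ hv)⟩
    exact congrArg (fun m : ((EtCoh.bc g).obj V).left ⟶ U.left => m.base y) (bc_map_fst g a)

theorem isOpenImmersion_of_bc_map {U V : S.Etale} (a : V ⟶ U)
    [IsOpenImmersion ((EtCoh.bc g).map a).left] : IsOpenImmersion a.left := by
  have : AlgebraicGeometry.Etale U.hom := U.prop
  have : AlgebraicGeometry.Etale V.hom := V.prop
  have : AlgebraicGeometry.Etale a.left :=
    MorphismProperty.of_postcomp (W := @AlgebraicGeometry.Etale) (W' := @AlgebraicGeometry.Etale)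
      a.left U.hom U.prop ((MorphismProperty.Over.w a).symm ▸ V.prop)
  have : UniversallyInjective (pullback.fst U.hom g) :=
    MorphismProperty.pullback_fst (P := @UniversallyInjective) U.hom g inferInstance
  have : Surjective (pullback.fst V.hom g) := ⟨(isQuotientMap_fst g hg V).surjective⟩
  have : UniversallyInjective (pullback.fst V.hom g ≫ a.left) := by
    rw [← bc_map_fst g a]
    exact MorphismProperty.comp_mem _ _ _ inferInstance ‹UniversallyInjective (pullback.fst U.hom g)›
  have := Groth.L20.Thick.universallyInjective_of_comp_surjective (pullback.fst V.hom g) a.left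
  exact isOpenImmersion_of_etale_univInjective a.left

theorem full_faithful_bc : (EtCoh.bc g).Full ∧ (EtCoh.bc g).Faithful := by
  constructor
  · refine ⟨fun {V U} ψ => ?_⟩
    have : AlgebraicGeometry.Etale U.hom := U.prop
    obtain ⟨u, ⟨hu1, hu2⟩, -⟩ := existsUnique_hom_of_univInjective g hg V.hom U.hom
      (ψ.left ≫ pullback.fst U.hom g) ((Category.assoc _ _ _).trans
        ((congrArg (ψ.left ≫ ·) pullback.condition).trans ((Category.assoc _ _ _).symm.trans
          ((congrArg (· ≫ g) (MorphismProperty.Over.w ψ)).trans pullback.condition.symm))))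
    exact ⟨MorphismProperty.Over.homMk u hu1,
      bc_hom_ext g ((bc_map_fst g (MorphismProperty.Over.homMk u hu1 : V ⟶ U)).trans hu2.symm)⟩
  · refine ⟨fun {V U} a b h => ?_⟩
    have : AlgebraicGeometry.Etale U.hom := U.prop
    obtain ⟨u, -, hu⟩ := existsUnique_hom_of_univInjective g hg V.hom U.hom
      (pullback.fst V.hom g ≫ a.left) (by rw [Category.assoc, MorphismProperty.Over.w a])
    refine MorphismProperty.Over.Hom.ext ((hu a.left ⟨MorphismProperty.Over.w a, rfl⟩).trans
      (hu b.left ⟨MorphismProperty.Over.w b, ?_⟩).symm)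
    exact (bc_map_fst g a).symm.trans ((congrArg (fun m => m.left ≫ pullback.fst U.hom g) h).trans
      (bc_map_fst g b))

end Groth.L27.TopInv
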