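import Groth.Agent.L27.TopInv.Base
import Mathlib.AlgebraicGeometry.Gluing
import Mathlib.AlgebraicGeometry.Restrict
import Mathlib.AlgebraicGeometry.Morphisms.OpenImmersion

/-! # Being a base change from the small etale site is Zariski local -/

universe u

open CategoryTheory CategoryTheory.Limits AlgebraicGeometry

set_option backward.isDefEq.respectTransparency.types false

namespace Groth.L27.TopInv

variable {S S' : Scheme.{u}} (g : S' ⟶ S) [UniversallyInjective g] (hg : SGA1.UnivSubmersive g)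
  (Z : S'.Etale)

/-- An open subscheme, as an object of the small etale site. -/
noncomputable def openObj (W : Z.left.Opens) : S'.Etale :=
  haveI : AlgebraicGeometry.Etale Z.hom := Z.prop
  Scheme.Etale.mk (W.ι ≫ Z.hom)

noncomputable def openRes {W W' : Z.left.Opens} (h : W ≤ W') : openObj Z W ⟶ openObj Z W' :=
  MorphismProperty.Over.homMk (Z.left.homOfLE h)
    (show Z.left.homOfLE h ≫ W'.ι ≫ Z.hom = W.ι ≫ Z.hom by rw [← Category.assoc, Scheme.homOfLE_ι])

/-- The open subscheme is a base change. -/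
def InImage (W : Z.left.Opens) : Prop := ∃ U : S.Etale, Nonempty ((EtCoh.bc g).obj U ≅ openObj Z W)

include hg in
theorem inImage_of_le {W W' : Z.left.Opens} (h : W ≤ W') (h' : InImage g Z W') : InImage g Z W := by
  obtain ⟨U, ⟨e⟩⟩ := h'
  have : AlgebraicGeometry.Etale U.hom := U.prop
  obtain ⟨el, hel'⟩ : ∃ el : ((EtCoh.bc g).obj U).left ≅ (W' : Scheme.{u}), el.hom = e.hom.left :=
    ⟨⟨e.hom.left, e.inv.left, congrArg (fun a => a.left) e.hom_inv_id,
      congrArg (fun a => a.left) e.inv_hom_id⟩, rfl⟩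
  let m : ((EtCoh.bc g).obj U).left ⟶ Z.left := el.hom ≫ W'.ι
  let O : U.left.Opens := ⟨(pullback.fst U.hom g).base '' (m.base ⁻¹' W),
    (isHomeomorph_fst g hg U).isOpenMap _ (W.2.preimage m.continuous)⟩
  let UO : S.Etale := Scheme.Etale.mk (O.ι ≫ U.hom)
  let a : UO ⟶ U := MorphismProperty.Over.homMk O.ι rfl
  have : IsOpenImmersion a.left := inferInstanceAs (IsOpenImmersion O.ι)
  have := isOpenImmersion_bc_map g a
  have hι : ∀ V : Z.left.Opens, IsOpenImmersion V.ι := fun V => inferInstance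
  have : IsIso el.hom := el.isIso_hom
  have hel : IsOpenImmersion el.hom := IsOpenImmersion.of_isIso el.hom
  have hm : IsOpenImmersion m :=
    MorphismProperty.comp_mem @IsOpenImmersion el.hom W'.ι hel (hι W')
  have hmW : (W : Set Z.left) ⊆ Set.range m.base := fun z hz =>
    ⟨el.inv.base ⟨z, h hz⟩, by
      rw [← Scheme.Hom.comp_apply]
      simp only [m, Iso.inv_hom_id_assoc]
      rfl⟩
  have hr : Set.range (((EtCoh.bc g).map a).left ≫ m).base = (W : Set Z.left) := by
    have h1 : Set.range a.left.base = (O : Set U.left) := Scheme.Opens.range_ι O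
    calc _ = m.base '' Set.range ((EtCoh.bc g).map a).left.base := by
          rw [← Set.range_comp]; rfl
      _ = m.base '' (m.base ⁻¹' W) := by
          rw [range_bc_map g hg, h1]
          exact congrArg _ ((isHomeomorph_fst g hg U).bijective.1.preimage_image _)
      _ = _ := Set.image_preimage_eq_of_subset hmW
  have hcm : IsOpenImmersion (((EtCoh.bc g).map a).left ≫ m) :=
    MorphismProperty.comp_mem @IsOpenImmersion ((EtCoh.bc g).map a).left m ‹IsOpenImmersion ((EtCoh.bc g).map a).left› hm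
  refine ⟨UO, ⟨isoOfLeft (@IsOpenImmersion.isoOfRangeEq _ _ Z.left (((EtCoh.bc g).map a).left ≫ m) W.ι
    hcm (hι W) (hr.trans (Scheme.Opens.range_ι W).symm)) ?_⟩⟩
  change _ ≫ W.ι ≫ Z.hom = _
  refine (Category.assoc _ _ _).symm.trans ((congrArg (· ≫ Z.hom)
    (@IsOpenImmersion.isoOfRangeEq_hom_fac _ _ Z.left (((EtCoh.bc g).map a).left ≫ m) W.ι hcm (hι W) _)).trans ?_)
  refine (Category.assoc _ _ _).trans (Eq.trans ?_ (MorphismProperty.Over.w ((EtCoh.bc g).map a)))
  exact congrArg (_ ≫ ·) ((Category.assoc _ _ _).trans (hel' ▸ MorphismProperty.Over.w e.hom))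

section Colim

/-- The index of the gluing diagram. -/
abbrev Idx := {W : Z.left.Opens // InImage g Z W}

noncomputable def lift (W : Idx g Z) : S.Etale := W.2.choose

noncomputable def liftIso (W : Idx g Z) : (EtCoh.bc g).obj (lift g Z W) ≅ openObj Z W.1 :=
  W.2.choose_spec.some

include hg in
theorem exists_map {W W' : Idx g Z} (h : W ≤ W') :
    ∃ a : lift g Z W ⟶ lift g Z W',
      (EtCoh.bc g).map a = (liftIso g Z W).hom ≫ openRes Z h ≫ (liftIso g Z W').inv := by
  have := (full_faithful_bc g hg).1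
  exact (EtCoh.bc g).map_surjective _

noncomputable def diagram : Idx g Z ⥤ S.Etale where
  obj W := lift g Z W
  map f := (exists_map g hg Z (leOfHom f)).choose
  map_id W := by
    have := (full_faithful_bc g hg).2
    apply (EtCoh.bc g).map_injective
    rw [(exists_map g hg Z (leOfHom (𝟙 W))).choose_spec, (EtCoh.bc g).map_id]
    have : openRes Z (leOfHom (𝟙 W)) = 𝟙 (openObj Z W.1) :=
      MorphismProperty.Over.Hom.ext (Z.left.homOfLE_rfl W.1)
    rw [this, Category.id_comp, Iso.hom_inv_id]
  map_comp {W W' W''} f f' := by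
    have := (full_faithful_bc g hg).2
    apply (EtCoh.bc g).map_injective
    rw [(exists_map g hg Z (leOfHom (f ≫ f'))).choose_spec, (EtCoh.bc g).map_comp,
      (exists_map g hg Z (leOfHom f)).choose_spec, (exists_map g hg Z (leOfHom f')).choose_spec]
    have : openRes Z (leOfHom (f ≫ f')) = openRes Z (leOfHom f) ≫ openRes Z (leOfHom f') :=
      MorphismProperty.Over.Hom.ext (Z.left.homOfLE_homOfLE (U := W.1) (V := W'.1) (W := W''.1) (leOfHom f) (leOfHom f')).symm
    rw [this]
    simp only [Category.assoc, Iso.inv_hom_id_assoc]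

theorem bc_map_diagram {W W' : Idx g Z} (f : W ⟶ W') :
    (EtCoh.bc g).map ((diagram g hg Z).map f) =
      (liftIso g Z W).hom ≫ openRes Z (leOfHom f) ≫ (liftIso g Z W').inv :=
  (exists_map g hg Z (leOfHom f)).choose_spec

/-- The underlying diagram of schemes. -/
noncomputable abbrev schDiagram : Idx g Z ⥤ Scheme.{u} :=
  diagram g hg Z ⋙ Scheme.Etale.forget S ⋙ Over.forget S

theorem isOpenImmersion_diagram {W W' : Idx g Z} (f : W ⟶ W') :
    IsOpenImmersion ((diagram g hg Z).map f).left := by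
  have : IsOpenImmersion ((EtCoh.bc g).map ((diagram g hg Z).map f)).left := by
    rw [bc_map_diagram]
    have : IsOpenImmersion (openRes Z (leOfHom f)).left :=
      inferInstanceAs (IsOpenImmersion (Z.left.homOfLE (show W.1 ≤ W'.1 from leOfHom f)))
    have h1 : IsIso (liftIso g Z W).hom.left :=
      ⟨(liftIso g Z W).inv.left, congrArg (fun a => a.left) (liftIso g Z W).hom_inv_id,
        congrArg (fun a => a.left) (liftIso g Z W).inv_hom_id⟩
    have h2 : IsIso (liftIso g Z W').inv.left :=
      ⟨(liftIso g Z W').hom.left, congrArg (fun a => a.left) (liftIso g Z W').inv_hom_id,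
        congrArg (fun a => a.left) (liftIso g Z W').hom_inv_id⟩
    exact inferInstanceAs (IsOpenImmersion
      ((liftIso g Z W).hom.left ≫ (openRes Z (leOfHom f)).left ≫ (liftIso g Z W').inv.left))
  exact isOpenImmersion_of_bc_map g hg _

instance {W W' : Idx g Z} (f : W ⟶ W') : IsOpenImmersion ((schDiagram g hg Z).map f) :=
  isOpenImmersion_diagram g hg Z f

/-- The point of `Z` below a point of a lift. -/
noncomputable def toZ (W : Idx g Z) (y : ((EtCoh.bc g).obj (lift g Z W)).left) : Z.left :=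
  W.1.ι.base ((liftIso g Z W).hom.left.base y)

theorem toZ_map {W W' : Idx g Z} (f : W ⟶ W') (y : ((EtCoh.bc g).obj (lift g Z W)).left) :
    toZ g Z W' (((EtCoh.bc g).map ((diagram g hg Z).map f)).left.base y) = toZ g Z W y := by
  have e : ((EtCoh.bc g).map ((diagram g hg Z).map f)).left ≫ (liftIso g Z W').hom.left ≫ W'.1.ι =
      (liftIso g Z W).hom.left ≫ W.1.ι := by
    have e1 : (EtCoh.bc g).map ((diagram g hg Z).map f) ≫ (liftIso g Z W').hom =
        (liftIso g Z W).hom ≫ openRes Z (leOfHom f) := by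
      rw [bc_map_diagram]
      exact (Category.assoc _ _ _).trans (congrArg (_ ≫ ·) ((Category.assoc _ _ _).trans
        ((congrArg (_ ≫ ·) (Iso.inv_hom_id _)).trans (Category.comp_id _))))
    refine (Category.assoc _ _ _).symm.trans ((congrArg (fun a => a.left ≫ W'.1.ι) e1).trans ?_)
    exact (Category.assoc _ _ _).trans (congrArg (_ ≫ ·) (Z.left.homOfLE_ι (U := W.1) (V := W'.1) (leOfHom f)))
  exact congrArg (fun m : _ ⟶ Z.left => m.base y) e

theorem toZ_injective (W : Idx g Z) : Function.Injective (toZ g Z W) := fun a b h => by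
  have h1 := W.1.ι.injective h
  have : ∀ c, (liftIso g Z W).inv.left.base ((liftIso g Z W).hom.left.base c) = c := fun c =>
    congrArg (fun a : _ ⟶ (EtCoh.bc g).obj (lift g Z W) => a.left.base c) (liftIso g Z W).hom_inv_id
  rw [← this a, h1, this b]

theorem exists_toZ (W : Idx g Z) (z : Z.left) (hz : z ∈ W.1) : ∃ y, toZ g Z W y = z :=
  ⟨(liftIso g Z W).inv.left.base (⟨z, hz⟩ : (W.1 : Scheme.{u})), congrArg W.1.ι.base
    (congrArg (fun a : _ ⟶ openObj Z W.1 => a.left.base (⟨z, hz⟩ : (W.1 : Scheme.{u})))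
      (liftIso g Z W).inv_hom_id)⟩

theorem toZ_mem (W : Idx g Z) (y : ((EtCoh.bc g).obj (lift g Z W)).left) : toZ g Z W y ∈ W.1 :=
  ((liftIso g Z W).hom.left.base y).2

instance isLocallyDirected : (schDiagram g hg Z ⋙ Scheme.forget).IsLocallyDirected where
  cond {i j k} fi fj xi xj h := by
    obtain ⟨yi, rfl⟩ := (isHomeomorph_fst g hg (lift g Z i)).bijective.2 xi
    obtain ⟨yj, rfl⟩ := (isHomeomorph_fst g hg (lift g Z j)).bijective.2 xj
    have hk : ((EtCoh.bc g).map ((diagram g hg Z).map fi)).left.base yi =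
        ((EtCoh.bc g).map ((diagram g hg Z).map fj)).left.base yj := by
      refine (isHomeomorph_fst g hg (lift g Z k)).bijective.1 ?_
      exact (congrArg (fun m : _ ⟶ (lift g Z k).left => m.base yi) (bc_map_fst g _)).trans
        (h.trans (congrArg (fun m : _ ⟶ (lift g Z k).left => m.base yj) (bc_map_fst g _)).symm)
    have hz : toZ g Z i yi = toZ g Z j yj := by
      rw [← toZ_map g hg Z fi, hk, toZ_map g hg Z fj]
    let l : Idx g Z := ⟨i.1 ⊓ j.1, inImage_of_le g hg Z inf_le_left i.2⟩
    let fli : l ⟶ i := homOfLE (inf_le_left : i.1 ⊓ j.1 ≤ i.1)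
    let flj : l ⟶ j := homOfLE (inf_le_right : i.1 ⊓ j.1 ≤ j.1)
    obtain ⟨y, hy⟩ := exists_toZ g Z l (toZ g Z i yi)
      ⟨toZ_mem g Z i yi, hz.symm ▸ toZ_mem g Z j yj⟩
    refine ⟨l, fli, flj, (pullback.fst (lift g Z l).hom g).base y, ?_, ?_⟩
    · have e : ((EtCoh.bc g).map ((diagram g hg Z).map fli)).left.base y = yi :=
        toZ_injective g Z i ((toZ_map g hg Z fli y).trans hy)
      rw [← e]
      exact (congrArg (fun m : _ ⟶ (lift g Z i).left => m.base y) (bc_map_fst g _)).symm
    · have e : ((EtCoh.bc g).map ((diagram g hg Z).map flj)).left.base y = yj :=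
        toZ_injective g Z j ((toZ_map g hg Z flj y).trans (hy.trans hz))
      rw [← e]
      exact (congrArg (fun m : _ ⟶ (lift g Z j).left => m.base y) (bc_map_fst g _)).symm

noncomputable def structCocone : Cocone (schDiagram g hg Z) where
  pt := S
  ι := { app := fun W => (lift g Z W).hom
         naturality := fun W W' f =>
           (MorphismProperty.Over.w ((diagram g hg Z).map f)).trans (Category.comp_id _).symm }

theorem etale_desc : AlgebraicGeometry.Etale (colimit.desc _ (structCocone g hg Z)) := by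
  rw [IsZariskiLocalAtSource.iff_of_openCover (P := @AlgebraicGeometry.Etale)
    (Scheme.IsLocallyDirected.openCover (schDiagram g hg Z))]
  intro W
  exact (colimit.ι_desc (structCocone g hg Z) W).symm ▸ (lift g Z W).prop

/-- The glued object. -/
noncomputable def glued : S.Etale :=
  @Scheme.Etale.mk S _ (colimit.desc _ (structCocone g hg Z)) (etale_desc g hg Z)

noncomputable def gluedι (W : Idx g Z) : lift g Z W ⟶ glued g hg Z :=
  MorphismProperty.Over.homMk (colimit.ι (schDiagram g hg Z) W) (colimit.ι_desc _ W)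

theorem diagram_gluedι {W W' : Idx g Z} (f : W ⟶ W') :
    (diagram g hg Z).map f ≫ gluedι g hg Z W' = gluedι g hg Z W :=
  MorphismProperty.Over.Hom.ext (colimit.w (schDiagram g hg Z) f)

/-- The comparison from a piece. -/
noncomputable def piece (W : Idx g Z) : openObj Z W.1 ⟶ (EtCoh.bc g).obj (glued g hg Z) :=
  (liftIso g Z W).inv ≫ (EtCoh.bc g).map (gluedι g hg Z W)

theorem openRes_piece {W W' : Idx g Z} (h : W ≤ W') :
    openRes Z h ≫ piece g hg Z W' = piece g hg Z W := by
  have e := congrArg ((EtCoh.bc g).map) (diagram_gluedι g hg Z (homOfLE h))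
  rw [Functor.map_comp, bc_map_diagram] at e
  rw [piece, piece, ← cancel_epi (liftIso g Z W).hom, Iso.hom_inv_id_assoc]
  refine Eq.trans ?_ e
  exact (congrArg (_ ≫ ·) (Category.assoc _ _ _).symm).trans (Category.assoc _ _ _).symm

end Colim

include hg in
/-- Zariski locality of the essential image. -/
theorem exists_iso_of_cover (h : ∀ z : Z.left, ∃ W : Z.left.Opens, z ∈ W ∧ InImage g Z W) :
    ∃ U : S.Etale, Nonempty ((EtCoh.bc g).obj U ≅ Z) := by
  have hI : TopologicalSpace.IsOpenCover fun W : Idx g Z => W.1 := by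
    rw [TopologicalSpace.IsOpenCover, eq_top_iff]
    intro z _
    obtain ⟨W, hW, hW'⟩ := h z
    exact TopologicalSpace.Opens.mem_iSup.2 ⟨⟨W, hW'⟩, hW⟩
  let 𝒰 := Z.left.openCoverOfIsOpenCover _ hI
  let φ : Z.left ⟶ ((EtCoh.bc g).obj (glued g hg Z)).left :=
    𝒰.glueMorphisms (fun W => (piece g hg Z W).left) (by
      intro W W'
      let k := pullback.fst W.1.ι W'.1.ι ≫ W.1.ι
      have hk : Set.range k.base ⊆ Set.range (W.1 ⊓ W'.1).ι.base := by
        rw [Scheme.Opens.range_ι]
        rintro _ ⟨x, rfl⟩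
        refine ⟨((pullback.fst W.1.ι W'.1.ι).base x).2, ?_⟩
        have : k = pullback.snd W.1.ι W'.1.ι ≫ W'.1.ι := pullback.condition
        rw [this]
        exact ((pullback.snd W.1.ι W'.1.ι).base x).2
      let l : Idx g Z := ⟨W.1 ⊓ W'.1, inImage_of_le g hg Z inf_le_left W.2⟩
      have h1 : pullback.fst W.1.ι W'.1.ι =
          IsOpenImmersion.lift l.1.ι k hk ≫ Z.left.homOfLE (inf_le_left : l.1 ≤ W.1) := by
        rw [← cancel_mono W.1.ι, Category.assoc, Scheme.homOfLE_ι, IsOpenImmersion.lift_fac]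
      have h2 : pullback.snd W.1.ι W'.1.ι =
          IsOpenImmersion.lift l.1.ι k hk ≫ Z.left.homOfLE (inf_le_right : l.1 ≤ W'.1) := by
        rw [← cancel_mono W'.1.ι, Category.assoc, Scheme.homOfLE_ι, IsOpenImmersion.lift_fac]
        exact pullback.condition.symm
      have e1 := congrArg (fun a => a.left) (openRes_piece g hg Z (show l ≤ W from (inf_le_left : W.1 ⊓ W'.1 ≤ W.1)))
      have e2 := congrArg (fun a => a.left) (openRes_piece g hg Z (show l ≤ W' from (inf_le_right : W.1 ⊓ W'.1 ≤ W'.1)))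
      change pullback.fst W.1.ι W'.1.ι ≫ _ = pullback.snd W.1.ι W'.1.ι ≫ _
      rw [h1, h2, Category.assoc, Category.assoc]
      exact congrArg (_ ≫ ·) (e1.trans e2.symm))
  have hφ : ∀ W : Idx g Z, W.1.ι ≫ φ = (piece g hg Z W).left := fun W => 𝒰.ι_glueMorphisms _ _ W
  have hw : φ ≫ ((EtCoh.bc g).obj (glued g hg Z)).hom = Z.hom := by
    refine 𝒰.hom_ext _ _ fun W => ?_
    change W.1.ι ≫ φ ≫ _ = W.1.ι ≫ Z.hom
    rw [← Category.assoc, hφ]
    exact MorphismProperty.Over.w (piece g hg Z W)
  have hpt : ∀ (W : Idx g Z) (y : ((EtCoh.bc g).obj (lift g Z W)).left),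
      (pullback.fst (glued g hg Z).hom g).base (φ.base (toZ g Z W y)) =
        (colimit.ι (schDiagram g hg Z) W).base ((pullback.fst (lift g Z W).hom g).base y) := by
    intro W y
    have e : (liftIso g Z W).hom.left ≫ W.1.ι ≫ φ = ((EtCoh.bc g).map (gluedι g hg Z W)).left := by
      refine (congrArg ((liftIso g Z W).hom.left ≫ ·) (hφ W)).trans ?_
      exact congrArg (fun a => a.left) ((liftIso g Z W).hom_inv_id_assoc ((EtCoh.bc g).map (gluedι g hg Z W)))
    refine (congrArg _ (congrArg (fun m : _ ⟶ ((EtCoh.bc g).obj (glued g hg Z)).left => m.base y) e)).trans ?_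
    exact congrArg (fun m : _ ⟶ (glued g hg Z).left => m.base y) (bc_map_fst g (gluedι g hg Z W))
  have hopen : IsOpenImmersion φ := by
    refine IsOpenImmersion.of_openCover_source φ 𝒰 ?_ fun W => ?_
    · intro a b hab
      obtain ⟨Wa, hWa, hWa'⟩ := h a
      obtain ⟨Wb, hWb, hWb'⟩ := h b
      obtain ⟨ya, rfl⟩ := exists_toZ g Z ⟨Wa, hWa'⟩ a hWa
      obtain ⟨yb, rfl⟩ := exists_toZ g Z ⟨Wb, hWb'⟩ b hWb
      have he := congrArg (pullback.fst (glued g hg Z).hom g).base hab
      obtain ⟨l, fa, fb, x, hxa, hxb⟩ :=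
        (Scheme.IsLocallyDirected.ι_eq_ι_iff (F := schDiagram g hg Z)).1
          ((hpt _ ya).symm.trans (he.trans (hpt _ yb)))
      obtain ⟨y, rfl⟩ := (isHomeomorph_fst g hg (lift g Z l)).bijective.2 x
      have ea : ((EtCoh.bc g).map ((diagram g hg Z).map fa)).left.base y = ya :=
        (isHomeomorph_fst g hg _).bijective.1
          ((congrArg (fun m : _ ⟶ (lift g Z _).left => m.base y) (bc_map_fst g _)).trans hxa)
      have eb : ((EtCoh.bc g).map ((diagram g hg Z).map fb)).left.base y = yb :=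
        (isHomeomorph_fst g hg _).bijective.1
          ((congrArg (fun m : _ ⟶ (lift g Z _).left => m.base y) (bc_map_fst g _)).trans hxb)
      rw [← ea, ← eb, toZ_map, toZ_map]
    · change IsOpenImmersion (W.1.ι ≫ φ)
      rw [hφ]
      have h2 : IsIso (liftIso g Z W).inv.left :=
        ⟨(liftIso g Z W).hom.left, congrArg (fun a => a.left) (liftIso g Z W).inv_hom_id,
          congrArg (fun a => a.left) (liftIso g Z W).hom_inv_id⟩
      have : IsOpenImmersion (gluedι g hg Z W).left :=
        inferInstanceAs (IsOpenImmersion (colimit.ι (schDiagram g hg Z) W))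
      have := isOpenImmersion_bc_map g (gluedι g hg Z W)
      exact inferInstanceAs (IsOpenImmersion
        ((liftIso g Z W).inv.left ≫ ((EtCoh.bc g).map (gluedι g hg Z W)).left))
  have : Surjective φ := ⟨fun x => by
    obtain ⟨W, a, ha⟩ := Scheme.IsLocallyDirected.ι_jointly_surjective (schDiagram g hg Z)
      ((pullback.fst (glued g hg Z).hom g).base x)
    obtain ⟨y, rfl⟩ := (isHomeomorph_fst g hg (lift g Z W)).bijective.2 a
    exact ⟨toZ g Z W y, (isHomeomorph_fst g hg _).bijective.1 ((hpt W y).trans ha)⟩⟩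
  have : IsIso φ := (isIso_iff_isOpenImmersion_and_surjective _).2 ⟨inferInstance, inferInstance⟩
  exact ⟨glued g hg Z, ⟨(isoOfLeft (asIso φ) hw).symm⟩⟩

include hg in
/-- Base change is an equivalence once lifts exist Zariski locally. -/
theorem isEquivalence_bc
    (h : ∀ (Z : S'.Etale) (z : Z.left), ∃ W : Z.left.Opens, z ∈ W ∧ InImage g Z W) :
    (EtCoh.bc g).IsEquivalence := by
  obtain ⟨h1, h2⟩ := full_faithful_bc g hg
  have : (EtCoh.bc g).EssSurj := ⟨fun Z => exists_iso_of_cover g hg Z (h Z)⟩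
  exact { }

end Groth.L27.TopInv
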